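import Cfsg.Agent.H756.PU.Stmts

/-!
# S5258, task PU-REAL-b: the interface to the concrete group `SUJ`
-/

set_option autoImplicit false

namespace Cfsg.Agent.H757.PU

open Cfsg Cfsg.FusionSystem Cfsg.Agent.H756.PU

universe u

/-- The data to be supplied by the concrete group: `G0 = SUJ` (matrices `g ∈ SL₅(K)` with `g J g* = J`), `T` the group
of triples `(x1, x2, τ)`; for instance `T` = the subgroup of `MulAut (UG K) × MulAut G0` of the pairs `(a, b)` with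
`IsTor a x1 x2 τ`, `b` = conjugation by `diag(x1, x2, ..)` after `τ`, for some `x1, x2, τ`. -/
structure RData (K : Type u) [Field K] [StarRing K] (p : ℕ) where
  G0 : Type u
  T : Type u
  [grpG : Group G0]
  [finG : Finite G0]
  [grpT : Group T]
  /-- the embedding -/
  ι : UG K →* G0
  ρ : T →* MulAut (UG K)
  A : T →* MulAut G0
  inj : Function.Injective ι
  syl : ¬ p ∣ ι.range.index
  injT : Function.Injective ρ
  tor : ∀ (α : MulAut (UG K)) (x1 x2 : K) (τ : K ≃+* K), IsTor α x1 x2 τ → α ∈ ρ.range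
  act : ∀ (t : T) (x : UG K), A t (ι x) = ι (ρ t x)
  nrm : ∀ g : G0, (∀ x : UG K, g * ι x * g⁻¹ ∈ ι.range) →
    ∃ (u : UG K) (s t : K) (α β : MulAut (UG K)), s ≠ 0 ∧ t ≠ 0 ∧ IsTor α s s⁻¹ (RingEquiv.refl K) ∧
      IsTor β (t * (star t)⁻¹) (t ^ 2 * (star t)⁻¹) (RingEquiv.refl K) ∧
      ∀ x : UG K, g * ι x * g⁻¹ = ι (u * α (β x) * u⁻¹)
  w1 : ∃ (g : G0) (κ : K) (γ : MulAut (Q1 K)), IsW1 κ γ ∧ ∀ e : Q1 K, g * ι (e : UG K) * g⁻¹ = ι ((γ e : Q1 K) : UG K)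
  w2 : ∃ (g : G0) (γ : MulAut (Q2 K)), IsW2 γ ∧ ∀ e : Q2 K, g * ι (e : UG K) * g⁻¹ = ι ((γ e : Q2 K) : UG K)

attribute [instance] RData.grpG RData.finG RData.grpT

/-- (REAL-a) -/
def StRealA : Prop :=
  ∀ {K : Type u} [Field K] [StarRing K] {p n : ℕ} [Fact p.Prime], HypK K p n → Nonempty (RData.{u} K p)

end Cfsg.Agent.H757.PU
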