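import Cfsg.Agent.H757.PU.RealDef
import Cfsg.Agent.H781.Realized

/-!
# S5258, task PU-REAL-b: the fusion systems of the groups `SU₅(K) ⋊ D`
-/

set_option autoImplicit false

namespace Cfsg.Agent.H757.PU

open Cfsg Cfsg.FusionSystem Cfsg.Agent.H756.PU Cfsg.Agent.H781

universe u

section

variable {K : Type u} [Field K] [StarRing K]

/-! ### the Weyl elements do not normalize `Aut_S(Q)` -/

theorem normal_Q1 : (Q1 K).Normal := by
  constructor
  rintro g ⟨h1, h2⟩ y
  refine ⟨?_, ?_⟩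
  · simp [h1]
  · simp only [UG.mul_c, UG.mul_u2, UG.inv_c, UG.inv_u2, h1, h2, star_zero, mul_zero, sub_zero, add_zero, star_neg]
    linear_combination y.hc

theorem normal_Q2 : (Q2 K).Normal := by
  constructor
  intro g h1 y
  have h1' : g.r = 0 := h1
  show (y * g * y⁻¹).r = 0
  simp [h1']

theorem nn_w1 {κ : K} {γ : MulAut (Q1 K)} (h : IsW1 κ γ) : ¬ NormAut (⊤ : Subgroup (UG K)) γ := by
  intro hn
  have hstar : star κ = -κ := eq_neg_of_add_eq_zero_right h.tr
  have hQn := normal_Q1 (K := K)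
  let x : UG K := { r := 0, u1 := 0, u2 := 0, a := 0, b := 0, c := κ, ha := by simp, hc := by simp [h.tr] }
  let e1 : Q1 K := ⟨{ r := 1, u1 := 0, u2 := 0, a := 0, b := 0, c := 0, ha := by simp, hc := by simp }, ⟨rfl, rfl⟩⟩
  have h1 := hn (MulAut.conjNormal x) ((H802.mem_autInducedBy_iff _ _ _).2 ⟨x, trivial, fun e => rfl⟩)
  obtain ⟨y, -, hy⟩ := (H802.mem_autInducedBy_iff _ _ _).1 h1
  have h2 := congrArg UG.r (hy (γ e1))
  rw [MulAut.mul_apply, MulAut.mul_apply, MulAut.inv_apply_self, h.r] at h2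
  have h3 : ((MulAut.conjNormal x e1 : Q1 K) : UG K).b = -κ := by
    show (x * (e1 : UG K) * x⁻¹).b = -κ
    simp [UG.mul_b, UG.inv_b, UG.d, x, e1, hstar]
  have h4 : (y * ((γ e1 : Q1 K) : UG K) * y⁻¹).r = 0 := by
    rw [UG.mul_r, UG.mul_r, UG.inv_r, h.r]
    show y.r + -κ⁻¹ * (e1 : UG K).b + -y.r = 0
    have : (e1 : UG K).b = 0 := rfl
    rw [this]
    ring
  rw [h3, h4, neg_mul_neg, inv_mul_cancel₀ h.ne] at h2
  exact one_ne_zero h2

theorem nn_w2 {κ : K} (hκ : κ ≠ 0) (hκ' : κ + star κ = 0) {γ : MulAut (Q2 K)} (h : IsW2 γ) :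
    ¬ NormAut (⊤ : Subgroup (UG K)) γ := by
  intro hn
  have hstar : star κ = -κ := eq_neg_of_add_eq_zero_right hκ'
  have hQn := normal_Q2 (K := K)
  let x : UG K := { r := 1, u1 := 0, u2 := 0, a := 0, b := 0, c := 0, ha := by simp, hc := by simp }
  let e1 : Q2 K := ⟨{ r := 0, u1 := 0, u2 := 0, a := 0, b := 0, c := κ, ha := by simp, hc := by simp [hκ'] }, rfl⟩
  have h1 := hn (MulAut.conjNormal x) ((H802.mem_autInducedBy_iff _ _ _).2 ⟨x, trivial, fun e => rfl⟩)
  obtain ⟨y, -, hy⟩ := (H802.mem_autInducedBy_iff _ _ _).1 h1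
  have h2 := congrArg UG.c (hy (γ e1))
  rw [MulAut.mul_apply, MulAut.mul_apply, MulAut.inv_apply_self, h.c] at h2
  have h3 : ((MulAut.conjNormal x e1 : Q2 K) : UG K).a = κ := by
    show (x * (e1 : UG K) * x⁻¹).a = κ
    simp [UG.mul_a, UG.inv_a, UG.inv_b, UG.d, x, e1]
  have h4 : (y * ((γ e1 : Q2 K) : UG K) * y⁻¹).c = 0 := by
    have e2 : ((γ e1 : Q2 K) : UG K).u2 = 0 := by
      rw [h.u2]
      show -(0 : K) = 0
      exact neg_zero
    have e3 : ((γ e1 : Q2 K) : UG K).c = 0 := h.c e1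
    simp only [UG.mul_c, UG.mul_u2, UG.inv_c, UG.inv_u2, e2, e3, star_zero, mul_zero, sub_zero, add_zero, star_neg]
    linear_combination y.hc
  rw [h3, h4] at h2
  exact hκ h2

end

/-! ### the group -/

theorem card_comap_of_inj {A B : Type*} [Group A] [Group B] (f : A →* B) (hf : Function.Injective f) {D : Subgroup B}
    (hD : D ≤ f.range) : Nat.card (D.comap f) = Nat.card D := by
  have h1 : (D.comap f).map f = D := by
    rw [Subgroup.map_comap_eq, inf_eq_right.2 hD]
  calc Nat.card (D.comap f) = Nat.card ((D.comap f).map f) :=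
        Nat.card_congr ((D.comap f).equivMapOfInjective f hf).toEquiv
    _ = Nat.card D := by rw [h1]

/-- **(REAL)** from the concrete group -/
theorem real_of (hA : StRealA.{u}) (hG : StGrp.{u}) : StReal.{u} := by
  intro K _ _ p n _ hK D hDT hDc hT1 hT2
  obtain ⟨R⟩ := hA hK
  obtain ⟨hcard, hpg, -⟩ := hG hK
  have hp : p.Prime := hK.pp
  have hfinK : Finite K := hK.fin
  have hfinU : Finite (UG K) := Nat.finite_of_card_ne_zero (by
    rw [hcard]
    exact pow_ne_zero _ (pow_ne_zero _ hp.pos.ne'))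
  have hfinM : Finite (MulAut (UG K)) := Finite.of_injective (fun e : MulAut (UG K) => (e : UG K → UG K))
    (fun a b h => MulEquiv.ext (fun x => congrFun h x))
  have hfinT : Finite R.T := Finite.of_injective R.ρ R.injT
  -- the range of `ρ`
  have hTTρ : TT K ≤ R.ρ.range := by
    rw [TT, Subgroup.closure_le]
    rintro α ⟨x1, x2, τ, h⟩
    exact R.tor α x1 x2 τ h
  let TD : Subgroup R.T := D.comap R.ρ
  have hTDc : (Nat.card TD).Coprime p := by
    rw [card_comap_of_inj R.ρ R.injT (hDT.trans hTTρ)]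
    exact hDc
  let φ : TD →* MulAut R.G0 := R.A.comp TD.subtype
  have hφ : ∀ (t : TD) (x : UG K), φ t (R.ι x) = R.ι (R.ρ t x) := fun t x => R.act t x
  have hfinG : Finite (R.G0 ⋊[φ] TD) := Finite.of_equiv _ SemidirectProduct.equivProd.symm
  let ι : (⊤ : Subgroup (UG K)) →* R.G0 ⋊[φ] TD :=
    (SemidirectProduct.inl.comp R.ι).comp (Subgroup.topEquiv (G := UG K)).toMonoidHom
  have hι : ∀ x : (⊤ : Subgroup (UG K)), ι x = SemidirectProduct.inl (R.ι (x : UG K)) := fun x => rfl
  have hinj : Function.Injective ι := by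
    intro a b hab
    rw [hι, hι] at hab
    exact Subtype.ext (R.inj (SemidirectProduct.inl_injective hab))
  -- conjugation in the semidirect product
  have hconj : ∀ (g : R.G0 ⋊[φ] TD) (x : UG K), g * SemidirectProduct.inl (R.ι x) * g⁻¹ =
      SemidirectProduct.inl (g.left * R.ι (R.ρ g.right x) * g.left⁻¹) := by
    intro g x
    have h1 := SemidirectProduct.inl_aut (φ := φ) g.right (R.ι x)
    have h2 := (SemidirectProduct.inl_left_mul_inr_right g).symm
    rw [map_mul, map_mul, ← hφ, h1, map_inv]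
    conv_lhs => rw [h2]
    rw [mul_inv_rev, map_inv]
    simp only [mul_assoc]
  -- the Sylow subgroup
  have hrangep : IsPGroup p ι.range := hpg.of_surjective ι.rangeRestrict ι.rangeRestrict_surjective
  have hidx : ¬ p ∣ ι.range.index := by
    have h1 : Nat.card ι.range = Nat.card (UG K) := by
      rw [← Nat.card_congr (MonoidHom.ofInjective hinj).toEquiv]
      exact Nat.card_congr Subgroup.topEquiv.toEquiv
    have h2 : Nat.card R.ι.range = Nat.card (UG K) :=
      (Nat.card_congr (MonoidHom.ofInjective R.inj).toEquiv).symm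
    have h3 : Nat.card (R.G0 ⋊[φ] TD) = Nat.card R.G0 * Nat.card TD := by
      rw [Nat.card_congr SemidirectProduct.equivProd, Nat.card_prod]
    have h4 := ι.range.card_mul_index
    rw [h3, ← R.ι.range.card_mul_index, h1, h2, mul_assoc] at h4
    have h5 := Nat.eq_of_mul_eq_mul_left Nat.card_pos h4
    rw [h5]
    apply hp.not_dvd_mul R.syl
    rw [← Nat.Prime.coprime_iff_not_dvd hp]
    exact hTDc.symm
  let T : Sylow p (R.G0 ⋊[φ] TD) := hrangep.toSylow hidx
  have hT : (T : Subgroup (R.G0 ⋊[φ] TD)) = ι.range := rfl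
  have hreal := pullback_isRealizedBy ι hinj
  -- membership in automizers
  have haut : ∀ (Q : Subgroup (UG K)) (γ : MulAut Q), γ ∈ (pullback ι hinj).autGroup Q ↔
      ∃ g : R.G0 ⋊[φ] TD, ∀ e : Q, R.ι ((γ e : Q) : UG K) = g.left * R.ι (R.ρ g.right (e : UG K)) * g.left⁻¹ := by
    intro Q γ
    rw [H802.mem_autGroup_iff _ le_top]
    constructor
    · rintro ⟨h1, h2, g, hg⟩
      refine ⟨g, fun e => ?_⟩
      have h3 := hg e
      rw [hι, hι, hconj] at h3
      exact SemidirectProduct.inl_injective h3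
    · rintro ⟨g, hg⟩
      refine ⟨le_top, fun _ => trivial, g, fun e => ?_⟩
      rw [hι, hι, hconj]
      exact congrArg _ (hg e)
  -- the automizer of the whole group
  have hAF : ∀ α : MulAut (UG K), α ∈ AF (pullback ι hinj) ↔
      ∃ g : R.G0 ⋊[φ] TD, ∀ x : UG K, R.ι (α x) = g.left * R.ι (R.ρ g.right x) * g.left⁻¹ := by
    intro α
    have h1 : α ∈ AF (pullback ι hinj) ↔
        (MulAut.congr (Subgroup.topEquiv (G := UG K))).symm α ∈ (pullback ι hinj).autGroup ⊤ := by
      constructor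
      · rintro ⟨β, hβ, rfl⟩
        rw [MulEquiv.coe_toMonoidHom, MulEquiv.symm_apply_apply]
        exact hβ
      · intro h
        exact ⟨_, h, MulEquiv.apply_symm_apply _ _⟩
    rw [h1, haut]
    constructor
    · rintro ⟨g, hg⟩
      exact ⟨g, fun x => hg ⟨x, trivial⟩⟩
    · rintro ⟨g, hg⟩
      exact ⟨g, fun x => hg x⟩
  have hρD : ∀ t : TD, R.ρ t ∈ D := fun t => t.2
  refine ⟨pullback ι hinj, isSaturated_of_isRealizedBy hreal T hT, ⟨_, inferInstance, hfinG, ι, hreal, T, hT⟩, ?_, ?_, ?_⟩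
  · apply le_antisymm
    · intro α hα
      obtain ⟨g, hg⟩ := (hAF α).1 hα
      obtain ⟨u, s, t, a, b, hs, ht, ha, hb, h⟩ := R.nrm g.left (fun x => by
        refine ⟨α ((R.ρ g.right)⁻¹ x), ?_⟩
        rw [hg, MulAut.apply_inv_self])
      have h1 : α = MulAut.conj u * (a * b * R.ρ g.right) := by
        ext1 x
        apply R.inj
        rw [hg, h]
        rfl
      rw [h1]
      exact Subgroup.mul_mem_sup ⟨u, rfl⟩ (D.mul_mem (D.mul_mem (hT1 s hs a ha) (hT2 t ht b hb)) (hρD _))
    · apply sup_le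
      · rintro _ ⟨u, rfl⟩
        rw [hAF]
        refine ⟨SemidirectProduct.inl (R.ι u), fun x => ?_⟩
        rw [SemidirectProduct.left_inl, SemidirectProduct.right_inl, OneMemClass.coe_one, map_one, MulAut.one_apply, ← map_mul, ← map_inv,
          ← map_mul]
        rfl
      · intro d hd
        obtain ⟨t, ht⟩ := hTTρ (hDT hd)
        rw [hAF]
        refine ⟨SemidirectProduct.inr ⟨t, by show R.ρ t ∈ D; rw [ht]; exact hd⟩, fun x => ?_⟩
        rw [SemidirectProduct.left_inr, SemidirectProduct.right_inr, one_mul, inv_one, mul_one, ht]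
  · obtain ⟨g, κ, γ, hγ, hg⟩ := R.w1
    intro hn
    apply nn_w1 hγ
    apply hn
    rw [haut]
    refine ⟨SemidirectProduct.inl g, fun e => ?_⟩
    rw [SemidirectProduct.left_inl, SemidirectProduct.right_inl, OneMemClass.coe_one, map_one, MulAut.one_apply, hg]
  · obtain ⟨_, κ, _, hκ, -⟩ := R.w1
    obtain ⟨g, γ, hγ, hg⟩ := R.w2
    intro hn
    apply nn_w2 hκ.ne hκ.tr hγ
    apply hn
    rw [haut]
    refine ⟨SemidirectProduct.inl g, fun e => ?_⟩
    rw [SemidirectProduct.left_inl, SemidirectProduct.right_inl, OneMemClass.coe_one, map_one, MulAut.one_apply, hg]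

end Cfsg.Agent.H757.PU
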